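import Groth.Agent.L24.PerfModel.Tower
import Groth.Agent.S0591
import Groth.Agent.L19.Limit.FlatStage
import Groth.Agent.L00.LimSurj

/-!
# Flat morphisms of finite presentation to a perfection come from a stage of the tower
-/

set_option autoImplicit false
set_option linter.style.haveILetI false
set_option backward.isDefEq.respectTransparency.types false

universe u

open CategoryTheory CategoryTheory.Limits AlgebraicGeometry Opposite
open FrobSch
open Groth.L19.Limit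

noncomputable section

namespace Groth.L24.PerfModel

variable (p : ℕ) [hp : Fact p.Prime]

theorem exists_flat_stage {Y : Scheme.{u}} [IsCharP Y p] [CompactSpace Y] [QuasiSeparatedSpace Y]
    {Z : Scheme.{u}} (f : Z ⟶ PF p Y) [Flat f] [LocallyOfFinitePresentation f] [QuasiCompact f] [QuasiSeparated f] :
    ∃ (m : ℕ) (W : Scheme.{u}) (h : W ⟶ Y) (g : Z ⟶ W),
      Flat h ∧ LocallyOfFinitePresentation h ∧ QuasiCompact h ∧ QuasiSeparated h ∧
        (Surjective f → Surjective h) ∧ IsPullback g f h (q p Y m) := by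
  let D := tower p Y
  let c := cone p Y
  haveI : ∀ j, CompactSpace (D.obj j) := fun _ => ‹CompactSpace Y›
  haveI : ∀ j, QuasiSeparatedSpace (D.obj j) := fun _ => ‹QuasiSeparatedSpace Y›
  haveI : ∀ (i j : (ULift.{u} ℕ)ᵒᵖ) (a : i ⟶ j), IsAffineHom (D.map a) := fun i j a => isAffineHom_tower p Y a
  obtain ⟨i, Zi, fi, g, hfp, hqc, hqs, hsq⟩ := Groth.Agent.S0591.result D c (coneIsLimit p Y) Z f
  have hQ : qcqsfp fi := ⟨⟨hqc, hqs⟩, hfp⟩
  obtain ⟨j, φ, hflat⟩ := descends_flat (D := D) (coneIsLimit p Y) fi hQ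
    ((pb_iff_of_isPullback hsq).1 ‹Flat f›)
  obtain ⟨j', φ', hflat', hsurj⟩ : ∃ (j' : (ULift.{u} ℕ)ᵒᵖ) (φ' : j' ⟶ i), Pb @Flat fi (D.map φ') ∧
      (Surjective f → Pb @Surjective fi (D.map φ')) := by
    by_cases hs : Surjective f
    · obtain ⟨k, ψ, hk⟩ := Groth.L00.LimSurj.descends_surjective (D := D) (coneIsLimit p Y) fi hQ
        ((pb_iff_of_isPullback hsq).1 hs)
      obtain ⟨l, a, b, hab⟩ : ∃ (l : (ULift.{u} ℕ)ᵒᵖ) (a : l ⟶ j) (b : l ⟶ k), a ≫ φ = b ≫ ψ := by
        obtain ⟨l, a, b, -⟩ := IsCofilteredOrEmpty.cone_objs j k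
        exact ⟨l, a, b, Quiver.Hom.unop_inj (Subsingleton.elim _ _)⟩
      refine ⟨l, a ≫ φ, ?_, fun _ => ?_⟩
      · rw [D.map_comp]; exact pb_comp (D.map a) hflat
      · rw [hab, D.map_comp]; exact pb_comp (D.map b) hk
    · exact ⟨j, φ, hflat, fun h => absurd h hs⟩
  let W := pullback fi (D.map φ')
  let h : W ⟶ D.obj j' := pullback.snd fi (D.map φ')
  have hfp' : LocallyOfFinitePresentation h :=
    MorphismProperty.pullback_snd (P := @LocallyOfFinitePresentation) fi (D.map φ') hfp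
  have hqc' : QuasiCompact h := MorphismProperty.pullback_snd (P := @QuasiCompact) fi (D.map φ') hqc
  have hqs' : QuasiSeparated h := MorphismProperty.pullback_snd (P := @QuasiSeparated) fi (D.map φ') hqs
  have hW : IsPullback (pullback.fst fi (D.map φ')) h fi (D.map φ') := IsPullback.of_hasPullback _ _
  have hw : c.π.app j' ≫ D.map φ' = c.π.app i := c.w φ'
  let g' : Z ⟶ W := pullback.lift g (f ≫ c.π.app j') (by rw [Category.assoc, hw, hsq.w])
  have hg' : IsPullback g' f h (c.π.app j') := by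
    refine IsPullback.of_right ?_ (pullback.lift_snd _ _ _) hW
    rw [pullback.lift_fst, hw]
    exact hsq
  exact ⟨j'.unop.down, W, h, g', (pb_iff_of_isPullback hW).2 hflat', hfp', hqc', hqs',
    fun hs => (pb_iff_of_isPullback hW).2 (hsurj hs), hg'⟩

/-- Composites of flat finitely presented morphisms up to perfection. -/
theorem exists_factor_comp {X Y Z Y₀ Z₀ : Scheme.{u}} [IsCharP X p] [IsCharP Y p] [IsCharP Z p]
    [IsCharP Y₀ p] [IsCharP Z₀ p] [CompactSpace X] [QuasiSeparatedSpace X] (hX : IsPerfect X p)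
    (g₀ : Y₀ ⟶ X) [Flat g₀] [LocallyOfFinitePresentation g₀] [QuasiCompact g₀] [QuasiSeparated g₀]
    (πY : Y ⟶ Y₀) (hY : IsPerfection πY p)
    (f₀ : Z₀ ⟶ Y) [Flat f₀] [LocallyOfFinitePresentation f₀] [QuasiCompact f₀] [QuasiSeparated f₀]
    (πZ : Z ⟶ Z₀) (hZ : IsPerfection πZ p) :
    ∃ (W₀ : Scheme.{u}) (h₀ : W₀ ⟶ X) (ϖ : Z ⟶ W₀),
      Flat h₀ ∧ LocallyOfFinitePresentation h₀ ∧ QuasiCompact h₀ ∧ QuasiSeparated h₀ ∧
        IsPerfection ϖ p ∧ ϖ ≫ h₀ = πZ ≫ f₀ ≫ πY ≫ g₀ ∧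
          (Surjective g₀ → Surjective f₀ → Surjective h₀) := by
  haveI : CompactSpace Y₀ := QuasiCompact.compactSpace_of_compactSpace g₀
  haveI : QuasiSeparatedSpace Y₀ := quasiSeparatedSpace_of_quasiSeparated g₀
  obtain ⟨θ, hθ⟩ := Groth.L09.Perf.exists_iso hY (isPerfection_PF p Y₀)
  obtain ⟨m, W, h, g, hfl, hfp, hqc, hqs, hs, hsq⟩ := exists_flat_stage p (f₀ ≫ θ.hom)
  haveI := hfl; haveI := hfp; haveI := hqc; haveI := hqs
  haveI : IsIso (fpow p X m) := isIso_fpow p hX m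
  have hq : q p Y₀ m ≫ fpow p Y₀ m = q p Y₀ 0 := q_fpow p Y₀ 0 m
  refine ⟨W, h ≫ g₀ ≫ fpow p X m, πZ ≫ g, inferInstance, inferInstance, inferInstance, inferInstance,
    ⟨hZ.1, fun T _ hT => ⟨fun a b hab => ?_, fun z => ?_⟩⟩, ?_, fun h1 h2 => ?_⟩
  · haveI : IsCharP W p := IsCharP.of_hom h p
    refine Groth.L09.Perf.eq_of_comp hZ hT (hsq.hom_ext ?_ ?_)
    · simpa [Category.assoc] using hab
    · refine Groth.L09.Perf.eq_of_comp (isPerfection_PF p Y₀) hT ?_
      have e := congrArg (fun z => z ≫ h ≫ fpow p Y₀ m) hab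
      simp only [Category.assoc] at e ⊢
      rw [hsq.w_assoc] at e
      simp only [Category.assoc] at e
      rwa [hq] at e
  · obtain ⟨w, hw⟩ := Groth.L09.Perf.exists_lift (isPerfection_PF p Y₀) hT ((z ≫ h) ≫ fpow p Y₀ m)
    have hwm : w ≫ q p Y₀ m = z ≫ h := by
      haveI := isIso_fpow p hT m
      rw [← cancel_epi (fpow p T m), fpow_comp p (w ≫ q p Y₀ m), fpow_comp p (z ≫ h), ← hw, Category.assoc]
      exact congrArg (fun z => w ≫ z) hq
    obtain ⟨b, hb⟩ := Groth.L09.Perf.exists_lift hZ hT (hsq.lift z w hwm.symm)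
    refine ⟨b, ?_⟩
    show b ≫ πZ ≫ g = z
    rw [← Category.assoc, hb, hsq.lift_fst]
  · rw [Category.assoc, hsq.w_assoc, ← fpow_comp p g₀ m, Category.assoc]
    refine congrArg (fun z => πZ ≫ f₀ ≫ z) ?_
    refine (congrArg (fun z => θ.hom ≫ z) ((Category.assoc _ _ _).symm.trans
      (congrArg (fun z : PF p Y₀ ⟶ Y₀ => z ≫ g₀) hq))).trans ?_
    exact (Category.assoc _ _ _).symm.trans (congrArg (fun z : Y ⟶ Y₀ => z ≫ g₀) hθ)
  · haveI : Surjective g₀ := h1
    haveI : Surjective f₀ := h2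
    haveI : Surjective h := hs inferInstance
    infer_instance

end Groth.L24.PerfModel
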