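import Groth.Agent.L24.PerfModel.Tower
import Groth.Agent.L19.Approx.FactorSystem
import Groth.Agent.S7383
import Mathlib.CategoryTheory.Limits.Constructions.Over.Connected
import Mathlib.CategoryTheory.IsConnected
import Mathlib.Data.ZMod.Basic
import Mathlib.RingTheory.ZMod
import Groth.Agent.S12442

/-!
# Models of compact perfect schemes over the prime field
-/

set_option autoImplicit false
set_option linter.style.haveILetI false
set_option backward.isDefEq.respectTransparency.types false

universe u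

open CategoryTheory CategoryTheory.Limits AlgebraicGeometry Opposite
open FrobSch

noncomputable section

namespace Groth.L24.PerfModel

variable (p : ℕ) [hp : Fact p.Prime]

/-- The spectrum of the prime field. -/
abbrev B : Scheme.{u} := Spec (CommRingCat.of (ULift.{u} (ZMod p)))

instance isCharP_B : IsCharP (B.{u} p) p :=
  Groth.L09.Perf.natCast_Spec p _ (by
    apply ULift.ext
    simp)

theorem subsingleton_hom_B (T : Scheme.{u}) : Subsingleton (T ⟶ B.{u} p) := ⟨fun a b => by
  refine (Groth.L09.Perf.bijective_toSpec T _).1 (RingHom.ext fun z => ?_)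
  obtain ⟨n, rfl⟩ : ∃ n : ℤ, z = (n : ULift.{u} (ZMod p)) := by
    obtain ⟨n, hn⟩ := ZMod.intCast_surjective z.down
    exact ⟨n, ULift.ext _ _ (by simpa using hn.symm)⟩
  simp⟩

theorem nonempty_hom_B (T : Scheme.{u}) [IsCharP T p] : Nonempty (T ⟶ B.{u} p) := by
  have h : (p : Γ(T, ⊤)) = 0 := IsCharP.natCast_eq_zero
  rcases subsingleton_or_nontrivial Γ(T, ⊤) with hS | hN
  · let φ : ULift.{u} (ZMod p) →+* Γ(T, ⊤) :=
      { toFun := fun _ => 0
        map_one' := Subsingleton.elim _ _
        map_mul' := fun _ _ => Subsingleton.elim _ _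
        map_zero' := rfl
        map_add' := fun _ _ => Subsingleton.elim _ _ }
    exact ⟨T.toSpecΓ ≫ Spec.map (CommRingCat.ofHom φ)⟩
  · haveI := Groth.L09.Perf.charP_of_natCast_eq_zero p Γ(T, ⊤) h
    exact ⟨T.toSpecΓ ≫ Spec.map (CommRingCat.ofHom
      ((ZMod.castHom dvd_rfl Γ(T, ⊤)).comp ULift.ringEquiv.toRingHom))⟩

theorem exists_pmap {A A' : Scheme.{u}} [IsCharP A p] [IsCharP A' p] (f : A ⟶ A') :
    ∃ g : PF p A ⟶ PF p A', ∀ n, g ≫ q p A' n = q p A n ≫ f :=
  exists_lift (fun n => q p A n ≫ f) fun n => by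
    rw [Category.assoc, ← frob_comp p f, ← Category.assoc, q_succ]

theorem q_fpow0 (X : Scheme.{u}) [IsCharP X p] (n : ℕ) : q p X n ≫ fpow p X n = q p X 0 :=
  q_fpow p X 0 n

/-- The map of perfections. -/
def pmap {A A' : Scheme.{u}} [IsCharP A p] [IsCharP A' p] (f : A ⟶ A') : PF p A ⟶ PF p A' :=
  (exists_pmap p f).choose

@[reassoc]
theorem pmap_q {A A' : Scheme.{u}} [IsCharP A p] [IsCharP A' p] (f : A ⟶ A') (n : ℕ) :
    pmap p f ≫ q p A' n = q p A n ≫ f :=
  (exists_pmap p f).choose_spec n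

/-- The diagram of perfections. -/
def pdiag {J : Type u} [SmallCategory J] (D : J ⥤ Scheme.{u}) [∀ j, IsCharP (D.obj j) p] : J ⥤ Scheme.{u} where
  obj j := PF p (D.obj j)
  map a := pmap p (D.map a)
  map_id j := hom_ext _ _ fun n => by rw [pmap_q, D.map_id, Category.comp_id, Category.id_comp]
  map_comp a b := hom_ext _ _ fun n => by
    rw [pmap_q, Category.assoc, pmap_q, pmap_q_assoc, D.map_comp]

/-- The factorization of a morphism out of a perfection through a stage of the tower. -/
theorem exists_stage {Y : Scheme.{u}} [IsCharP Y p] (g : Y ⟶ B.{u} p) [LocallyOfFinitePresentation g]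
    {Z : Scheme.{u}} [IsCharP Z p] [CompactSpace Z] [QuasiSeparatedSpace Z] (a : PF p Z ⟶ Y) :
    ∃ (n : ℕ) (e₀ : Z ⟶ Y), q p Z n ≫ e₀ = a := by
  obtain ⟨gZ⟩ := nonempty_hom_B p Z
  let t : tower p Z ⟶ (Functor.const _).obj (B.{u} p) :=
    { app := fun _ => gZ
      naturality := fun _ _ _ => (subsingleton_hom_B p _).elim _ _ }
  haveI : ∀ j, CompactSpace ((tower p Z).obj j) := fun _ => ‹CompactSpace Z›
  haveI : ∀ j, QuasiSeparatedSpace ((tower p Z).obj j) := fun _ => ‹QuasiSeparatedSpace Z›
  obtain ⟨j, e₀, he, -⟩ := Scheme.exists_π_app_comp_eq_of_locallyOfFinitePresentation (tower p Z) t g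
    (cone p Z) (coneIsLimit p Z) a (by
      apply NatTrans.ext
      funext j
      exact (subsingleton_hom_B p _).elim _ _)
  exact ⟨j.unop.down, e₀, he⟩

theorem fpow_cancel {T X : Scheme.{u}} [IsCharP T p] [IsCharP X p] (hT : IsPerfect T p) (n : ℕ) {a b : T ⟶ X}
    (h : a ≫ fpow p X n = b ≫ fpow p X n) : a = b := by
  haveI := isIso_fpow p hT n
  rw [← cancel_epi (fpow p T n), fpow_comp p a, fpow_comp p b, h]

/-- A compact perfect scheme has a model of finite presentation over the prime field. -/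
theorem exists_model (X : Scheme.{u}) [IsCharP X p] [CompactSpace X] [QuasiSeparatedSpace X] (hX : IsPerfect X p)
    (hc : ∀ (J : Type u) [SmallCategory J] [IsCofiltered J] (F : J ⥤ Scheme.{u})
      [∀ j, IsCharP (F.obj j) p] (c : Cone F) [IsCharP c.pt p], IsLimit c →
      (∀ ⦃i j : J⦄ (a : i ⟶ j), IsAffineHom (F.map a)) →
      (∀ j, IsPerfect (F.obj j) p ∧ CompactSpace (F.obj j) ∧ QuasiSeparatedSpace (F.obj j)) →
      IsPerfect c.pt p → CompactSpace c.pt → QuasiSeparatedSpace c.pt →
      (∀ g : c.pt ⟶ X, ∃ (j : J) (gj : F.obj j ⟶ X), c.π.app j ≫ gj = g) ∧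
      (∀ (j : J) (g g' : F.obj j ⟶ X), c.π.app j ≫ g = c.π.app j ≫ g' →
        ∃ (k : J) (a : k ⟶ j), F.map a ≫ g = F.map a ≫ g')) :
    ∃ (X0 : Scheme.{u}) (s : X0 ⟶ B.{u} p) (_ : LocallyOfFinitePresentation s)
      (_ : CompactSpace X0) (_ : QuasiSeparatedSpace X0) (π : X ⟶ X0), IsPerfection π p := by
  obtain ⟨f⟩ := nonempty_hom_B p X
  obtain ⟨I, _, _, _, D, c, hcl, hD, hDa, ⟨e⟩⟩ := Groth.Agent.S7383.result f
  haveI : IsCofiltered Iᵒᵖ := by
    haveI : IsFiltered I := inferInstance
    infer_instance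
  haveI : IsConnected Iᵒᵖ := IsCofiltered.isConnected _
  let D₀ : Iᵒᵖ ⥤ Scheme.{u} := D ⋙ Over.forget _
  obtain ⟨x, hx⟩ : ∃ x : ∀ i, X ⟶ D₀.obj i, ∀ i, x i = e.inv.left ≫ (c.π.app i).left := ⟨_, fun _ => rfl⟩
  let c₀ : Cone D₀ :=
    { pt := X
      π := { app := x
             naturality := fun i j a => by
               show 𝟙 X ≫ x j = x i ≫ (D.map a).left
               refine (Category.id_comp _).trans ?_
               rw [hx, hx]
               refine Eq.trans ?_ (Category.assoc _ _ _).symm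
               exact congrArg (fun z => e.inv.left ≫ z) (congrArg (fun z : c.pt ⟶ D.obj j => z.left) (c.w a).symm) } }
  have hc₀ : IsLimit c₀ :=
    (isLimitOfPreserves (Over.forget _) hcl).ofIsoLimit
      (Cone.ext ((Over.forget _).mapIso e) fun i => by
        show (c.π.app i).left = e.hom.left ≫ x i
        rw [hx]
        exact (((Category.assoc _ _ _).symm.trans
          (congrArg (fun z : (c.pt : Over _).left ⟶ c.pt.left => z ≫ (c.π.app i).left)
            (congrArg (fun z : c.pt ⟶ c.pt => z.left) e.hom_inv_id))).trans (Category.id_comp _)).symm)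
  haveI : ∀ i, IsCharP (D₀.obj i) p := fun i => IsCharP.of_hom (D.obj i).hom p
  haveI : ∀ i, CompactSpace (D₀.obj i) := fun i => by
    haveI := (hD i).2.1
    let g : (D.obj i).left ⟶ B.{u} p := (D.obj i).hom
    haveI : QuasiCompact g := (hD i).2.1
    exact (QuasiCompact.compactSpace_of_compactSpace g : CompactSpace (D.obj i).left)
  haveI : ∀ i, QuasiSeparatedSpace (D₀.obj i) := fun i => by
    haveI := (hD i).2.2
    let g : (D.obj i).left ⟶ B.{u} p := (D.obj i).hom
    haveI : QuasiSeparated g := (hD i).2.2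
    exact (quasiSeparatedSpace_of_quasiSeparated g : QuasiSeparatedSpace (D.obj i).left)
  haveI : ∀ n, IsIso (fpow p X n) := isIso_fpow p hX
  have hinv : ∀ n, inv (fpow p X (n + 1)) ≫ frob X p = inv (fpow p X n) := fun n => by
    rw [IsIso.inv_comp_eq, ← cancel_mono (fpow p X n), Category.assoc, IsIso.inv_hom_id, Category.comp_id]
    rfl
  have hy : ∀ i, ∃ y : X ⟶ PF p (D₀.obj i), ∀ n, y ≫ q p (D₀.obj i) n = inv (fpow p X n) ≫ x i := fun i =>
    exists_lift (fun n => inv (fpow p X n) ≫ x i) fun n => by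
      rw [Category.assoc, ← frob_comp p (x i), ← Category.assoc, hinv]
  choose y hy using hy
  haveI : ∀ i, IsCharP ((pdiag p D₀).obj i) p := fun i => isCharP_PF p _
  let cF : Cone (pdiag p D₀) :=
    { pt := X
      π := { app := y
             naturality := fun i j a => by
               refine hom_ext _ _ fun n => ?_
               show (𝟙 X ≫ y j) ≫ q p (D₀.obj j) n = (y i ≫ pmap p (D₀.map a)) ≫ q p (D₀.obj j) n
               rw [Category.id_comp, hy, Category.assoc, pmap_q, ← Category.assoc, hy, Category.assoc]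
               exact congrArg (fun z => inv (fpow p X n) ≫ z) (c₀.w a).symm } }
  let sc : ∀ (T : Cone (pdiag p D₀)) (n : ℕ), Cone D₀ := fun T n =>
    { pt := T.pt
      π := { app := fun i => T.π.app i ≫ q p (D₀.obj i) n
             naturality := fun i j a => by
               show 𝟙 T.pt ≫ T.π.app j ≫ q p (D₀.obj j) n = (T.π.app i ≫ q p (D₀.obj i) n) ≫ D₀.map a
               rw [Category.id_comp]
               refine Eq.trans ?_ (Category.assoc _ _ _).symm
               refine Eq.trans ?_ (congrArg (fun z => T.π.app i ≫ z) (pmap_q p (D₀.map a) n))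
               exact (congrArg (fun z => z ≫ q p (D₀.obj j) n) (T.w a).symm).trans (Category.assoc _ _ _) } }
  let v : ∀ (T : Cone (pdiag p D₀)) (n : ℕ), T.pt ⟶ X := fun T n => hc₀.lift (sc T n)
  have hv : ∀ T n i, v T n ≫ x i = T.π.app i ≫ q p (D₀.obj i) n := fun T n i => hc₀.fac (sc T n) i
  have hv0 : ∀ T n, v T n ≫ fpow p X n = v T 0 := fun T n => hc₀.hom_ext fun i => by
    show (v T n ≫ fpow p X n) ≫ x i = v T 0 ≫ x i
    rw [Category.assoc, fpow_comp p (x i), ← Category.assoc, hv, hv, Category.assoc]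
    exact congrArg (fun z => T.π.app i ≫ z) (q_fpow p (D₀.obj i) 0 n)
  have hcF : IsLimit cF :=
    { lift := fun T => v T 0
      fac := fun T i => hom_ext _ _ fun n => by
        show (v T 0 ≫ y i) ≫ q p (D₀.obj i) n = T.π.app i ≫ q p (D₀.obj i) n
        rw [Category.assoc, hy, ← hv T n i, ← Category.assoc]
        exact congrArg (fun z => z ≫ x i) (by rw [IsIso.comp_inv_eq, hv0])
      uniq := fun T m hm => hc₀.hom_ext fun i => by
        show m ≫ x i = v T 0 ≫ x i
        rw [hv, ← hm i]
        show m ≫ x i = (m ≫ y i) ≫ q p (D₀.obj i) 0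
        rw [Category.assoc, hy]
        exact congrArg (fun z => m ≫ z) ((IsIso.eq_inv_comp _).2 (Category.id_comp _)) }
  obtain ⟨j, r, hr⟩ := (hc Iᵒᵖ (pdiag p D₀) cF hcF
    (fun i j a => by
      haveI := hDa i j a
      exact (Groth.L09.Perf.isAffineHom_iff (isPerfection_PF p _) (isPerfection_PF p _)
        (pmap_q p (D₀.map a) 0)).1 (inferInstanceAs (IsAffineHom (D.map a).left)))
    (fun i => ⟨isPerfect_PF p _, qcqs_PF p (D₀.obj i)⟩) hX inferInstance inferInstance).1 (𝟙 X)
  change y j ≫ r = 𝟙 X at hr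
  let Y := D₀.obj j
  let gY : Y ⟶ B.{u} p := (D.obj j).hom
  haveI : LocallyOfFinitePresentation gY := (hD j).1
  haveI : QuasiCompact gY := (hD j).2.1
  haveI : QuasiSeparated gY := (hD j).2.2
  obtain ⟨n, e₀, he⟩ := exists_stage p gY ((r ≫ y j) ≫ q p Y 0)
  let L : Y ⟶ pullback gY gY := pullback.lift (fpow p Y n) e₀ ((subsingleton_hom_B p _).elim _ _)
  let W := pullback L (pullback.diagonal gY)
  let ι : W ⟶ Y := pullback.fst L (pullback.diagonal gY)
  haveI : LocallyOfFinitePresentation (pullback.diagonal gY) := by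
    haveI : LocallyOfFinitePresentation (pullback.diagonal gY ≫ pullback.fst gY gY) := by
      rw [pullback.diagonal_fst]; infer_instance
    exact Groth.Agent.S12442.result (pullback.diagonal gY) (pullback.fst gY gY)
  haveI : QuasiCompact (pullback.diagonal gY) := QuasiSeparated.quasiCompact_diagonal
  haveI : IsCharP W p := IsCharP.of_hom ι p
  have hW : ι ≫ fpow p Y n = ι ≫ e₀ := by
    have h := pullback.condition (f := L) (g := pullback.diagonal gY)
    have h1 : ι ≫ fpow p Y n = pullback.snd L (pullback.diagonal gY) := by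
      have h' := congrArg (fun z => z ≫ pullback.fst gY gY) h
      simp only [Category.assoc, pullback.diagonal_fst, L] at h'
      erw [pullback.lift_fst, Category.comp_id] at h'
      exact h'
    have h2 : ι ≫ e₀ = pullback.snd L (pullback.diagonal gY) := by
      have h' := congrArg (fun z => z ≫ pullback.snd gY gY) h
      simp only [Category.assoc, pullback.diagonal_snd, L] at h'
      erw [pullback.lift_snd, Category.comp_id] at h'
      exact h'
    rw [h1, h2]
  have hlift : ∀ {T : Scheme.{u}} (z : T ⟶ Y), z ≫ fpow p Y n = z ≫ e₀ → ∃ l : T ⟶ W, l ≫ ι = z :=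
    fun z hz => ⟨pullback.lift z (z ≫ fpow p Y n) (pullback.hom_ext
      (by
        rw [Category.assoc, Category.assoc, pullback.diagonal_fst, Category.comp_id]
        exact congrArg (fun v => z ≫ v) (pullback.lift_fst _ _ _))
      (by
        rw [Category.assoc, Category.assoc, pullback.diagonal_snd, Category.comp_id, hz]
        exact congrArg (fun v => z ≫ v) (pullback.lift_snd _ _ _))),
      pullback.lift_fst _ _ _⟩
  obtain ⟨π, hπ⟩ := hlift (y j ≫ q p Y n) (by
    rw [Category.assoc, Category.assoc, q_fpow0 p Y n, he, ← Category.assoc, ← Category.assoc (y j) r,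
      hr, Category.id_comp])
  refine ⟨W, ι ≫ gY, inferInstance, QuasiCompact.compactSpace_of_compactSpace (ι ≫ gY),
    quasiSeparatedSpace_of_quasiSeparated (ι ≫ gY), π, hX, fun T _ hT => ⟨fun a b hab => ?_, fun z => ?_⟩⟩
  · have h0 : a ≫ y j = b ≫ y j := by
      refine Groth.L09.Perf.eq_of_comp (isPerfection_PF p Y) hT ?_
      have h1 := congrArg (fun z => z ≫ ι ≫ fpow p Y n) hab
      simp only [Category.assoc] at h1 ⊢
      rwa [← Category.assoc π, hπ, Category.assoc, q_fpow0 p Y n] at h1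
    have h2 : (a ≫ y j) ≫ r = (b ≫ y j) ≫ r := congrArg (fun z => z ≫ r) h0
    rw [Category.assoc, Category.assoc] at h2
    calc a = a ≫ 𝟙 X := (Category.comp_id a).symm
      _ = a ≫ (y j ≫ r) := by rw [hr]
      _ = b ≫ (y j ≫ r) := h2
      _ = b ≫ 𝟙 X := by rw [hr]
      _ = b := Category.comp_id b
  · obtain ⟨w, hw⟩ := Groth.L09.Perf.exists_lift (isPerfection_PF p Y) hT ((z ≫ ι) ≫ fpow p Y n)
    have hwn : w ≫ q p Y n = z ≫ ι :=
      fpow_cancel p hT n (by rw [Category.assoc, q_fpow0 p Y n, hw])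
    have hwe : w ≫ r ≫ y j = w := by
      refine Groth.L09.Perf.eq_of_comp (isPerfection_PF p Y) hT ?_
      rw [Category.assoc, ← he, ← Category.assoc, hwn, hw, Category.assoc, Category.assoc, hW]
    refine ⟨w ≫ r, ?_⟩
    haveI : Mono ι := inferInstance
    rw [← cancel_mono ι]
    show ((w ≫ r) ≫ π) ≫ ι = z ≫ ι
    rw [Category.assoc, hπ, ← Category.assoc, show (w ≫ r) ≫ y j = w from (Category.assoc _ _ _).trans hwe, hwn]

end Groth.L24.PerfModel
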