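import Groth.Agent.L24.PerfModel.Tower
import Groth.Agent.L21.Mero.IsoFrames
import Groth.Agent.L18.AmpleNil
import Groth.Agent.L18.AmplePull
import Groth.Agent.L18.LocFreeFP
import Groth.Agent.L22.Bundle.UPBridge
import Groth.Agent.L21.Extend.Semilocal
import Groth.Agent.S4788
import Groth.Agent.S4790
import Groth.Agent.S4792

/-!
# Invertible modules on perfections
-/

set_option autoImplicit false
set_option linter.style.haveILetI false
set_option backward.isDefEq.respectTransparency.types false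
set_option backward.isDefEq.respectTransparency false

universe u

open CategoryTheory CategoryTheory.Limits AlgebraicGeometry Opposite
open FrobSch

noncomputable section

namespace Groth.L24.PerfModel

open Groth.L18.Frame (rs ro rs_rs rs_self rs_smul IsFrame pull pull_rs pull_smul)
open Groth.L18.SecTwistExt (epow epow_rs epow_smul)

variable (p : ℕ) [hp : Fact p.Prime]

local notation "PB" => Scheme.Modules.pullback

/-- The pullback of an invertible module along Frobenius is its `p`-th power. -/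
theorem nonempty_frob_iso {X : Scheme.{u}} [IsCharP X p] {L : X.Modules} (hL : PicF.IsInvertible L) :
    Nonempty (CohB1.tensorPow L p ≅ (PB (frob X p)).obj L) := by
  choose W e _ hxW he using fun x : X => Groth.L18.GenLoc.exists_affine_frame hL x
  refine Groth.L21.Mero.nonempty_iso_of_frames W (fun x => ⟨x, hxW x⟩)
    (fun i => epow (e i) p) (fun i => (id (pull (frob X p) L (W i) (e i)) : Γ((PB (frob X p)).obj L, W i)))
    (fun i => Groth.L18.AmpleNil.isFrame_epow (he i) p) (fun i => (he i).pullback (frob X p) L)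
    fun i j V hi hj u hu => ?_
  obtain ⟨u₀, hu₀⟩ := (he j).exists_coeff hj (rs L hi (e i))
  have hup : u = u₀ ^ p := (Groth.L18.AmpleNil.isFrame_epow (he j) p).inj hj (by
    refine Eq.trans hu.symm ?_
    rw [epow_rs, ← hu₀, epow_smul, epow_rs])
  rw [hup]
  show rs ((PB (frob X p)).obj L) ((frob X p).preimage_mono hi) (pull (frob X p) L (W i) (e i)) =
    (frob X p).app V u₀ • rs ((PB (frob X p)).obj L) ((frob X p).preimage_mono hj) (pull (frob X p) L (W j) (e j))
  rw [pull_rs, pull_rs, ← pull_smul, hu₀]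
  all_goals first | exact hj | exact hi

/-- The pullback of an invertible module along a power of Frobenius is a power of it. -/
theorem nonempty_fpow_iso {X : Scheme.{u}} [IsCharP X p] {L : X.Modules} (hL : PicF.IsInvertible L) :
    ∀ n, Nonempty ((PB (fpow p X n)).obj L ≅ CohB1.tensorPow L (p ^ n))
  | 0 => ⟨(Scheme.Modules.pullbackId X).app L ≪≫ (Groth.L00.Tensor.tensorPowOne L).symm⟩
  | n + 1 => by
    obtain ⟨a⟩ := nonempty_fpow_iso hL n
    obtain ⟨b⟩ := nonempty_frob_iso p (Groth.L18.Ample.isInvertible_tensorPow hL (p ^ n))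
    exact ⟨(Scheme.Modules.pullbackComp (frob X p) (fpow p X n)).symm.app L ≪≫ (PB (frob X p)).mapIso a ≪≫
      b.symm ≪≫ Groth.L00.Tensor.tensorPowMul L (p ^ n) p⟩

/-- Triviality on the perfection. -/
theorem nonempty_pullback_iso_unit_iff (X : Scheme.{u}) [IsCharP X p] [CompactSpace X] [QuasiSeparatedSpace X]
    {L : X.Modules} (hL : PicF.IsInvertible L) :
    Nonempty ((PB (q p X 0)).obj L ≅ Coh.structureModule (PF p X)) ↔
      ∃ n : ℕ, Nonempty (CohB1.tensorPow L (p ^ n) ≅ Coh.structureModule X) := by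
  haveI : ∀ (i j : (ULift.{u} ℕ)ᵒᵖ) (a : i ⟶ j), IsAffineHom ((tower p X).map a) :=
    fun i j a => isAffineHom_tower p X a
  haveI : CompactSpace ((tower p X).obj (op ⟨0⟩)) := ‹CompactSpace X›
  haveI : QuasiSeparatedSpace ((tower p X).obj (op ⟨0⟩)) := ‹QuasiSeparatedSpace X›
  constructor
  · rintro ⟨e⟩
    haveI hq : Coh.IsQCoh L := Groth.L21.Extend.isQCoh_of_isInvertible hL
    haveI hqO : Coh.IsQCoh (Coh.structureModule X) := Groth.L19.Conormal.isQCoh_structureModule X
    have hfp : ∀ {M : X.Modules}, PicF.IsInvertible M → CohB1.IsFP M := fun hM =>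
      Groth.L18.LFP.isFP_of_isFinLocFree _ fun x => by
        obtain ⟨U, hxU, h⟩ := Groth.L22.Bundle.isFinLocFree_one hM x
        exact ⟨U, 1, hxU, h⟩
    have hO : PicF.IsInvertible (Coh.structureModule X) :=
      Groth.L18.Ample.isInvertible_tensorPow hL 0
    obtain ⟨j, φ, ⟨e'⟩⟩ := (Groth.Agent.S4790.result (tower p X) (cone p X) (coneIsLimit p X) (op ⟨0⟩)
      L (Coh.structureModule X) (hfp hL) (hfp hO)).1
        ⟨e ≪≫ (Groth.L29.LocFree.pullbackUnitIso (q p X 0)).symm⟩
    obtain ⟨a⟩ := nonempty_fpow_iso p hL j.unop.down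
    exact ⟨j.unop.down, ⟨a.symm ≪≫ e' ≪≫ Groth.L29.LocFree.pullbackUnitIso (fpow p X j.unop.down)⟩⟩
  · rintro ⟨n, ⟨e⟩⟩
    obtain ⟨a⟩ := nonempty_fpow_iso p hL n
    exact ⟨(Scheme.Modules.pullbackCongr (q_fpow p X 0 n).symm).app L ≪≫
      (Scheme.Modules.pullbackComp (q p X (n + 0)) (fpow p X n)).symm.app L ≪≫
      (PB (q p X (n + 0))).mapIso (a ≪≫ e) ≪≫ Groth.L29.LocFree.pullbackUnitIso _⟩

/-- Every invertible module on the perfection has a power coming from below. -/
theorem exists_pow_iso_pullback (X : Scheme.{u}) [IsCharP X p] [CompactSpace X] [QuasiSeparatedSpace X]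
    {M : (PF p X).Modules} (hM : PicF.IsInvertible M) :
    ∃ (n : ℕ) (L : X.Modules), PicF.IsInvertible L ∧
      Nonempty (CohB1.tensorPow M (p ^ n) ≅ (PB (q p X 0)).obj L) := by
  haveI : ∀ (i j : (ULift.{u} ℕ)ᵒᵖ) (a : i ⟶ j), IsAffineHom ((tower p X).map a) :=
    fun i j a => isAffineHom_tower p X a
  haveI : ∀ i, CompactSpace ((tower p X).obj i) := fun _ => ‹CompactSpace X›
  haveI : ∀ i, QuasiSeparatedSpace ((tower p X).obj i) := fun _ => ‹QuasiSeparatedSpace X›
  haveI : Coh.IsQCoh M := Groth.L21.Extend.isQCoh_of_isInvertible hM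
  have h1 : FlatMod.IsFinLocFreeOfRank 1 M := Groth.L22.Bundle.isFinLocFree_one hM
  have hMfp : CohB1.IsFP M := Groth.L18.LFP.isFP_of_isFinLocFree M fun x => by
    obtain ⟨U, hxU, h⟩ := h1 x
    exact ⟨U, 1, hxU, h⟩
  obtain ⟨i, _, Fi, hFq, hFfp, ⟨e⟩⟩ :=
    Groth.Agent.S4788.result (tower p X) (cone p X) (coneIsLimit p X) (op ⟨0⟩) M hMfp
  haveI := hFq
  obtain ⟨j, φ, hj⟩ := (Groth.Agent.S4792.result (tower p X) (cone p X) (coneIsLimit p X) i Fi hFfp 1).1
    (Groth.L22.Bundle.isFinLocFree_one (Groth.L18.Ample.isInvertible_of_iso e.symm hM))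
  have hLj : PicF.IsInvertible ((PB ((tower p X).map φ)).obj Fi) := Groth.L22.Bundle.isInvertible_of_one hj
  let L : X.Modules := (PB ((tower p X).map φ)).obj Fi
  let c := cone p X
  let m := j.unop.down
  obtain ⟨a⟩ := nonempty_fpow_iso p (L := L) hLj m
  have eM : M ≅ (PB (q p X m)).obj L :=
    e.symm ≪≫ (Scheme.Modules.pullbackCongr (c.w φ).symm).app Fi ≪≫
      (Scheme.Modules.pullbackComp (c.π.app j) ((tower p X).map φ)).symm.app Fi
  let ep := Groth.L00.Tensor.tensorPowIso eM (p ^ m)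
  exact ⟨m, L, hLj, ⟨ep ≪≫ (Groth.L18.Ample.pullPow (q p X m) L (p ^ m)).symm ≪≫ (PB (q p X m)).mapIso a.symm ≪≫
      (Scheme.Modules.pullbackComp (q p X m) (fpow p X m)).app L ≪≫
      (Scheme.Modules.pullbackCongr (q_fpow p X 0 m)).app L⟩⟩

end Groth.L24.PerfModel
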