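import Groth.Agent.L09.PerfMor
import Groth.Agent.L19.Limit.Exists
import Mathlib.AlgebraicGeometry.AffineTransitionLimit
import Mathlib.Order.ULift

/-!
# Perfections as limits of the tower of Frobenius morphisms
-/

set_option autoImplicit false
set_option linter.style.haveILetI false
set_option backward.isDefEq.respectTransparency.types false

universe u

open CategoryTheory CategoryTheory.Limits AlgebraicGeometry Opposite
open FrobSch

noncomputable section

namespace Groth.L24.PerfModel

variable (p : ℕ) [hp : Fact p.Prime]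

theorem isAffineHom_frob (X : Scheme.{u}) [IsCharP X p] : IsAffineHom (frob X p) := ⟨fun _ hU => hU⟩

/-- Iterates of the absolute Frobenius. -/
def fpow (X : Scheme.{u}) [IsCharP X p] : ℕ → (X ⟶ X)
  | 0 => 𝟙 X
  | n + 1 => frob X p ≫ fpow X n

theorem fpow_one (X : Scheme.{u}) [IsCharP X p] : fpow p X 1 = frob X p := Category.comp_id _

theorem fpow_add (X : Scheme.{u}) [IsCharP X p] (m : ℕ) : ∀ n, fpow p X (n + m) = fpow p X n ≫ fpow p X m
  | 0 => by simp [fpow]
  | n + 1 => by
    rw [Nat.succ_add]
    show frob X p ≫ fpow p X (n + m) = (frob X p ≫ fpow p X n) ≫ fpow p X m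
    rw [fpow_add X m n, Category.assoc]

theorem fpow_comp {X Y : Scheme.{u}} [IsCharP X p] [IsCharP Y p] (f : X ⟶ Y) :
    ∀ n, fpow p X n ≫ f = f ≫ fpow p Y n
  | 0 => by simp [fpow]
  | n + 1 => by
    show (frob X p ≫ fpow p X n) ≫ f = f ≫ frob Y p ≫ fpow p Y n
    rw [Category.assoc, fpow_comp f n, ← Category.assoc, frob_comp p f, Category.assoc]

theorem isIso_fpow {X : Scheme.{u}} [IsCharP X p] (h : IsPerfect X p) : ∀ n, IsIso (fpow p X n)
  | 0 => inferInstanceAs (IsIso (𝟙 X))
  | n + 1 => by
    haveI : IsIso (frob X p) := h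
    haveI := isIso_fpow h n
    exact inferInstanceAs (IsIso (frob X p ≫ fpow p X n))

theorem isAffineHom_fpow (X : Scheme.{u}) [IsCharP X p] : ∀ n, IsAffineHom (fpow p X n)
  | 0 => inferInstanceAs (IsAffineHom (𝟙 X))
  | n + 1 => by
    haveI := isAffineHom_frob p X
    haveI := isAffineHom_fpow X n
    exact inferInstanceAs (IsAffineHom (frob X p ≫ fpow p X n))

variable (X : Scheme.{u}) [IsCharP X p]

/-- The tower of Frobenius morphisms. -/
def tower : (ULift.{u} ℕ)ᵒᵖ ⥤ Scheme.{u} where
  obj _ := X
  map {a b} _ := fpow p X (a.unop.down - b.unop.down)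
  map_id a := by simp [fpow]
  map_comp {a b c} g g' := by
    have h1 : b.unop.down ≤ a.unop.down := (leOfHom g.unop : b.unop ≤ a.unop)
    have h2 : c.unop.down ≤ b.unop.down := (leOfHom g'.unop : c.unop ≤ b.unop)
    rw [← fpow_add]
    congr 1
    omega

instance isAffineHom_tower {a b : (ULift.{u} ℕ)ᵒᵖ} (g : a ⟶ b) : IsAffineHom ((tower p X).map g) :=
  isAffineHom_fpow p X _

instance : IsCofiltered (ULift.{u} ℕ)ᵒᵖ := by
  haveI : IsFiltered (ULift.{u} ℕ) := inferInstance
  infer_instance

theorem hasLimit_tower : HasLimit (tower p X) :=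
  Groth.L19.Limit.hasLimit (tower p X)

/-- The projection to the stage `n`. -/
def q (n : ℕ) : (haveI := hasLimit_tower p X; limit (tower p X)) ⟶ X :=
  haveI := hasLimit_tower p X
  limit.π (tower p X) (op ⟨n⟩)

/-- The perfection. -/
abbrev PF : Scheme.{u} :=
  haveI := hasLimit_tower p X
  limit (tower p X)

/-- The perfection as a limit cone. -/
abbrev cone : Cone (tower p X) :=
  haveI := hasLimit_tower p X
  limit.cone (tower p X)

/-- The limit property. -/
def coneIsLimit : IsLimit (cone p X) :=
  haveI := hasLimit_tower p X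
  limit.isLimit (tower p X)

theorem q_fpow (m n : ℕ) : q p X (n + m) ≫ fpow p X n = q p X m := by
  haveI := hasLimit_tower p X
  have h := limit.w (tower p X) (homOfLE (show (⟨m⟩ : ULift.{u} ℕ) ≤ ⟨n + m⟩ from Nat.le_add_left m n)).op
  exact (congrArg (fun z => q p X (n + m) ≫ fpow p X z) (Nat.add_sub_cancel n m).symm).trans h

theorem q_succ (n : ℕ) : q p X (n + 1) ≫ frob X p = q p X n := by
  have h := q_fpow p X n 1
  rwa [Nat.add_comm, fpow_one] at h

instance isCharP_PF : IsCharP (PF p X) p := IsCharP.of_hom (q p X 0) p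

variable {p X}

theorem hom_ext {T : Scheme.{u}} (a b : T ⟶ PF p X) (h : ∀ n, a ≫ q p X n = b ≫ q p X n) : a = b := by
  haveI := hasLimit_tower p X
  exact limit.hom_ext fun j => h j.unop.down

theorem exists_lift {T : Scheme.{u}} (v : ℕ → (T ⟶ X)) (hv : ∀ n, v (n + 1) ≫ frob X p = v n) :
    ∃ g : T ⟶ PF p X, ∀ n, g ≫ q p X n = v n := by
  haveI := hasLimit_tower p X
  have hv' : ∀ m n, v (n + m) ≫ fpow p X n = v m := by
    intro m n
    induction n with
    | zero => simp [fpow]
    | succ n ih =>
      show v (n + 1 + m) ≫ frob X p ≫ fpow p X n = v m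
      rw [← Category.assoc, Nat.succ_add, hv, ih]
  let c : Cone (tower p X) :=
    { pt := T
      π := { app := fun a => v a.unop.down
             naturality := fun a b g => by
               have h1 : b.unop.down ≤ a.unop.down := (leOfHom g.unop : b.unop ≤ a.unop)
               show 𝟙 T ≫ v b.unop.down = v a.unop.down ≫ fpow p X (a.unop.down - b.unop.down)
               rw [Category.id_comp]
               obtain ⟨e, he⟩ := Nat.le.dest h1
               rw [← he, Nat.add_sub_cancel_left, Nat.add_comm, hv'] } }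
  exact ⟨limit.lift (tower p X) c, fun n => limit.lift_π c (op ⟨n⟩)⟩

variable (p X)

theorem isPerfect_PF : IsPerfect (PF p X) p := by
  obtain ⟨s, hs⟩ := exists_lift (p := p) (X := X) (fun n => q p X (n + 1)) fun n => q_succ p X (n + 1)
  refine ⟨s, hom_ext _ _ fun n => ?_, hom_ext _ _ fun n => ?_⟩
  · rw [Category.assoc, hs, frob_comp p (q p X (n + 1)), q_succ, Category.id_comp]
  · rw [Category.assoc, frob_comp p (q p X n), ← Category.assoc, hs, q_succ, Category.id_comp]

theorem isPerfection_PF : IsPerfection (q p X 0) p := by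
  refine ⟨isPerfect_PF p X, fun T _ hT => ⟨fun a b h => ?_, fun a => ?_⟩⟩
  · refine hom_ext _ _ fun n => ?_
    induction n with
    | zero => exact h
    | succ n ih =>
      haveI : IsIso (frob T p) := hT
      rw [← cancel_epi (frob T p), frob_comp p (a ≫ q p X (n + 1)), frob_comp p (b ≫ q p X (n + 1)),
        Category.assoc, Category.assoc, q_succ, ih]
  · haveI : IsIso (frob T p) := hT
    haveI : ∀ n, IsIso (fpow p T n) := isIso_fpow p hT
    obtain ⟨g, hg⟩ := exists_lift (p := p) (X := X) (fun n => inv (fpow p T n) ≫ a) fun n => by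
      rw [← cancel_epi (fpow p T n), IsIso.hom_inv_id_assoc]
      rw [Category.assoc, ← frob_comp p a, ← Category.assoc, ← Category.assoc,
        show fpow p T n ≫ inv (fpow p T (n + 1)) = inv (frob T p) from by
          rw [IsIso.comp_inv_eq]; exact (IsIso.inv_hom_id_assoc (frob T p) (fpow p T n)).symm,
        IsIso.inv_hom_id, Category.id_comp]
    refine ⟨g, ?_⟩
    show g ≫ q p X 0 = a
    rw [hg, IsIso.inv_comp_eq]
    exact (Category.id_comp a).symm

theorem qcqs_PF [CompactSpace X] [QuasiSeparatedSpace X] :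
    CompactSpace (PF p X) ∧ QuasiSeparatedSpace (PF p X) := by
  haveI := Groth.L09.Perf.isIntegralHom (isPerfection_PF p X)
  exact ⟨QuasiCompact.compactSpace_of_compactSpace (q p X 0),
    quasiSeparatedSpace_of_quasiSeparated (q p X 0)⟩

end Groth.L24.PerfModel
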